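import Cfsg.Agent.Lib.Spor.PSLFourThree.Base

/-!
The classes of involutions of `PSL₄(3)`.
-/

set_option autoImplicit false
set_option linter.unusedSectionVars false
set_option maxRecDepth 100000

namespace Cfsg.Agent.Spor.PSLFourThree.JCase

open Matrix

/-- The underlying vectors. -/
abbrev V4 := Fin 4 → ZMod 3

/-- The underlying matrices. -/
abbrev M4 := Matrix (Fin 4) (Fin 4) (ZMod 3)

theorem pow_four_pm : ∀ r : ZMod 3, r ^ 4 = 1 → r = 1 ∨ r = -1 := by decide

theorem mem_center_pm {c : SLF} (hc : c ∈ Subgroup.center SLF) : (c : M4) = 1 ∨ (c : M4) = -1 := by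
  obtain ⟨r, hr, e⟩ := Matrix.SpecialLinearGroup.mem_center_iff.1 hc
  rcases pow_four_pm r (by simpa using hr) with rfl | rfl
  · exact Or.inl (by rw [← e]; simp)
  · refine Or.inr ?_
    rw [← e]
    ext i j
    by_cases h : i = j <;> simp [Matrix.scalar, h]

/-- Two lifts of one element differ by a sign. -/
theorem pr_eq_iff {g h : SLF} : pr g = pr h ↔ (g : M4) = h ∨ (g : M4) = -h := by
  constructor
  · intro e
    have hc : g⁻¹ * h ∈ Subgroup.center SLF := QuotientGroup.eq.1 e
    have e' : (h : M4) = (g : M4) * ((g⁻¹ * h : SLF) : M4) := by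
      rw [← Matrix.SpecialLinearGroup.coe_mul, mul_inv_cancel_left]
    rcases mem_center_pm hc with h1 | h1
    · left; rw [e', h1, mul_one]
    · right; rw [e', h1, mul_neg, mul_one, neg_neg]
  · intro e
    refine QuotientGroup.eq.2 (Matrix.SpecialLinearGroup.mem_center_iff.2 ?_)
    rcases e with e | e
    · refine ⟨1, one_pow _, ?_⟩
      rw [show g = h from Subtype.ext e, inv_mul_cancel, Matrix.SpecialLinearGroup.coe_one]
      simp
    · refine ⟨-1, by decide, ?_⟩
      have h2 : ((g⁻¹ * h : SLF) : M4) = -((g⁻¹ : SLF) : M4) * (g : M4) := by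
        rw [Matrix.SpecialLinearGroup.coe_mul, neg_mul, ← mul_neg, e, neg_neg]
      rw [h2, neg_mul, ← Matrix.SpecialLinearGroup.coe_mul, inv_mul_cancel, Matrix.SpecialLinearGroup.coe_one]
      ext i j
      by_cases h : i = j <;> simp [Matrix.scalar, h]

theorem unit_cases : ∀ r : ZMod 3, r ≠ 0 → r = 1 ∨ r = -1 := by decide

theorem sq_add_sq : ∀ a b : ZMod 3, a * a + b * b = 0 → a = 0 ∧ b = 0 := by decide

/-- Conjugation by a matrix of determinant `±1` is conjugation by one of determinant one. -/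
theorem exists_conj {g x : SLF} {P U : M4} (hP : IsUnit P) (hgP : (g : M4) * P = P * (x : M4))
    (hU : U.det = -1) (hUx : U * (x : M4) = (x : M4) * U) : ∃ Q : SLF, Q * x * Q⁻¹ = g := by
  have hd : P.det ≠ 0 := ((Matrix.isUnit_iff_isUnit_det P).1 hP).ne_zero
  rcases unit_cases _ hd with h | h
  · set Q : SLF := ⟨P, h⟩ with hQ
    refine ⟨Q, (mul_inv_eq_iff_eq_mul (G := SLF)).2 ?_⟩
    apply Subtype.ext
    rw [Matrix.SpecialLinearGroup.coe_mul, Matrix.SpecialLinearGroup.coe_mul]
    exact hgP.symm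
  · have h' : (P * U).det = 1 := by rw [Matrix.det_mul, h, hU]; decide
    set Q : SLF := ⟨P * U, h'⟩ with hQ
    refine ⟨Q, (mul_inv_eq_iff_eq_mul (G := SLF)).2 ?_⟩
    apply Subtype.ext
    rw [Matrix.SpecialLinearGroup.coe_mul, Matrix.SpecialLinearGroup.coe_mul]
    show P * U * (x : M4) = (g : M4) * (P * U)
    rw [mul_assoc, hUx, ← mul_assoc, ← hgP, mul_assoc]

/-- An element of square minus one. -/
theorem conj_j {g : SLF} (hg : (g : M4) * g = -1) : ∃ Q : SLF, Q * jMat * Q⁻¹ = g := by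
  set T : M4 := (g : M4) with hT
  have hTT : ∀ v : V4, T *ᵥ (T *ᵥ v) = -v := fun v => by
    rw [Matrix.mulVec_mulVec, hg, Matrix.neg_mulVec, Matrix.one_mulVec]
  set v : V4 := Pi.single 0 1 with hv
  obtain ⟨w, hw⟩ : ∃ w : V4, ∀ a b : ZMod 3, w ≠ a • v + b • (T *ᵥ v) := by
    by_contra hne
    push Not at hne
    have hs : Function.Surjective (fun p : ZMod 3 × ZMod 3 => p.1 • v + p.2 • (T *ᵥ v)) := fun w => by
      obtain ⟨a, b, e⟩ := hne w
      exact ⟨(a, b), e.symm⟩
    have := Fintype.card_le_of_surjective _ hs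
    simp [Fintype.card_prod, ZMod.card] at this
  set P : M4 := Matrix.of fun r c => ![v, -(T *ᵥ v), w, -(T *ᵥ w)] c r with hPdef
  have hP : IsUnit P := by
    rw [← Matrix.mulVec_injective_iff_isUnit]
    refine fun x y hxy => sub_eq_zero.1 ?_
    have h0 : P *ᵥ (x - y) = 0 := by rw [Matrix.mulVec_sub, sub_eq_zero]; exact hxy
    generalize x - y = z at h0
    have hsum : z 0 • v - z 1 • (T *ᵥ v) + (z 2 • w - z 3 • (T *ᵥ w)) = 0 := by
      rw [← h0]
      funext r
      simp [hPdef, Matrix.mulVec, dotProduct, Fin.sum_univ_four]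
      ring
    have h2 := congrArg (T *ᵥ ·) hsum
    simp only [Matrix.mulVec_add, Matrix.mulVec_sub, Matrix.mulVec_smul, hTT, Matrix.mulVec_zero] at h2
    by_cases hc : z 2 * z 2 + z 3 * z 3 = 0
    · obtain ⟨e2, e3⟩ := sq_add_sq _ _ hc
      rw [e2, e3] at hsum h2
      simp only [zero_smul, sub_self, add_zero] at hsum h2
      have e : (z 0 * z 0 + z 1 * z 1) • v = 0 := by
        funext r
        have a1 := congrFun hsum r
        have a2 := congrFun h2 r
        simp only [Pi.add_apply, Pi.sub_apply, Pi.smul_apply, Pi.neg_apply, Pi.zero_apply, smul_eq_mul] at a1 a2 ⊢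
        linear_combination (z 0) * a1 + (z 1) * a2
      have e' := congrFun e 0
      simp [hv] at e'
      obtain ⟨e0, e1⟩ := sq_add_sq _ _ e'
      funext r
      fin_cases r <;> simp [e0, e1, e2, e3]
    · exfalso
      refine hw (-(z 0 * z 2 + z 1 * z 3) * (z 2 * z 2 + z 3 * z 3)⁻¹)
        ((z 1 * z 2 - z 0 * z 3) * (z 2 * z 2 + z 3 * z 3)⁻¹) ?_
      funext r
      have a1 := congrFun hsum r
      have a2 := congrFun h2 r
      simp only [Pi.add_apply, Pi.sub_apply, Pi.smul_apply, Pi.neg_apply, Pi.zero_apply, smul_eq_mul] at a1 a2 ⊢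
      linear_combination (z 2 * z 2 + z 3 * z 3)⁻¹ * ((z 2) * a1 + (z 3) * a2) - w r * mul_inv_cancel₀ hc
  refine exists_conj (U := !![1, 1, 0, 0; -1, 1, 0, 0; 0, 0, 1, 0; 0, 0, 0, 1]) hP ?_ (by decide +kernel)
    (by decide +kernel)
  ext r c
  have hcol : ∀ c, (T * P) r c = (T *ᵥ (fun k => P k c)) r := fun c => rfl
  rw [← hT, hcol]
  have hv' := congrFun (hTT v) r
  have hw' := congrFun (hTT w) r
  have hneg : ∀ f : V4, (fun k => -f k) = -f := fun _ => rfl
  fin_cases c <;> simp [hneg, hPdef, jMat, Matrix.mul_apply, Fin.sum_univ_four, Matrix.mulVec_neg, hTT]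

/-- The diagonal matrix over a sum of two index types. -/
theorem det_sign (k l : ℕ) :
    (Matrix.diagonal (Sum.elim (fun _ : Fin k => (-1 : ZMod 3)) fun _ : Fin l => 1)).det = (-1) ^ k := by
  rw [Matrix.det_diagonal, Fintype.prod_sum_type]
  simp

theorem even_two : ∀ k : Fin 5, k.val ≠ 0 → k.val ≠ 4 → (-1 : ZMod 3) ^ k.val = 1 → k.val = 2 := by decide

/-- An element of square one which is not a scalar. -/
theorem conj_s {g : SLF} (hg : (g : M4) * g = 1) (h1 : (g : M4) ≠ 1) (h2 : (g : M4) ≠ -1) :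
    ∃ Q : SLF, Q * sMat * Q⁻¹ = g := by
  set T : V4 →ₗ[ZMod 3] V4 := Matrix.toLin' (g : M4) with hT
  have hTT : ∀ v, T (T v) = v := fun v => by
    rw [hT, Matrix.toLin'_apply, Matrix.toLin'_apply, Matrix.mulVec_mulVec, hg, Matrix.one_mulVec]
  set En : Submodule (ZMod 3) V4 := LinearMap.ker (T + 1) with hEn
  set Ep : Submodule (ZMod 3) V4 := LinearMap.ker (T - 1) with hEp
  have hn : ∀ v, v ∈ En ↔ T v = -v := fun v => by
    rw [hEn, LinearMap.mem_ker, LinearMap.add_apply, add_eq_zero_iff_eq_neg]; rfl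
  have hp : ∀ v, v ∈ Ep ↔ T v = v := fun v => by
    rw [hEp, LinearMap.mem_ker, LinearMap.sub_apply, sub_eq_zero]; rfl
  have hc : IsCompl En Ep := by
    constructor
    · rw [Submodule.disjoint_def]
      intro v hv hv'
      rw [hn] at hv
      rw [hp] at hv'
      funext r
      have e := congrFun (hv'.symm.trans hv) r
      have key : ∀ a : ZMod 3, a = -a → a = 0 := by decide
      exact key _ e
    · rw [codisjoint_iff, eq_top_iff]
      intro v _
      refine Submodule.mem_sup.2 ⟨(2 : ZMod 3) • (v - T v), ?_, (2 : ZMod 3) • (v + T v), ?_, ?_⟩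
      · rw [hn, map_smul, map_sub, hTT, ← smul_neg, neg_sub]
      · rw [hp, map_smul, map_add, hTT, add_comm]
      · funext r
        have key : ∀ a b : ZMod 3, 2 * (a - b) + 2 * (a + b) = a := by decide
        simpa [mul_add] using key (v r) (T v r)
  have hdim := Submodule.finrank_add_eq_of_isCompl hc
  rw [Module.finrank_fin_fun] at hdim
  obtain ⟨k, hk⟩ : ∃ k, Module.finrank (ZMod 3) En = k := ⟨_, rfl⟩
  obtain ⟨l, hl⟩ : ∃ l, Module.finrank (ZMod 3) Ep = l := ⟨_, rfl⟩
  rw [hk, hl] at hdim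
  have hb1 := Module.finBasisOfFinrankEq (ZMod 3) En hk
  have hb2 := Module.finBasisOfFinrankEq (ZMod 3) Ep hl
  set b : Module.Basis (Fin k ⊕ Fin l) (ZMod 3) V4 :=
    (hb1.prod hb2).map (Submodule.prodEquivOfIsCompl _ _ hc) with hb
  have hTb : ∀ i, T (b i) = (Sum.elim (fun _ : Fin k => (-1 : ZMod 3)) (fun _ : Fin l => 1) i) • b i := by
    rintro (i | i)
    · have e : b (Sum.inl i) = (hb1 i : V4) := by simp [hb]
      rw [e, (hn _).1 (hb1 i).2, Sum.elim_inl, neg_one_smul]
    · have e : b (Sum.inr i) = (hb2 i : V4) := by simp [hb]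
      rw [e, (hp _).1 (hb2 i).2, Sum.elim_inr, one_smul]
  have hmat : LinearMap.toMatrix b b T =
      Matrix.diagonal (Sum.elim (fun _ : Fin k => (-1 : ZMod 3)) fun _ : Fin l => 1) := by
    ext i j
    rw [LinearMap.toMatrix_apply, hTb, map_smul, Module.Basis.repr_self, Finsupp.smul_single, smul_eq_mul, mul_one]
    by_cases h : i = j
    · subst h; simp
    · simp [h, Ne.symm h]
  have hdet : (-1 : ZMod 3) ^ k = 1 := by
    rw [← det_sign k l, ← hmat, LinearMap.det_toMatrix, hT, LinearMap.det_toLin', g.2]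
  have hk2 : k = 2 := by
    refine even_two ⟨k, by omega⟩ (fun h0 => h1 ?_) (fun h4 => h2 ?_) hdet
    · have htop : Ep = ⊤ := Submodule.eq_top_of_finrank_eq (by rw [hl, Module.finrank_fin_fun]; simp at h0; omega)
      have : T = LinearMap.id := LinearMap.ext fun v => (hp v).1 (htop ▸ Submodule.mem_top)
      rw [← LinearMap.toMatrix'_toLin' (g : M4), ← hT, this, LinearMap.toMatrix'_id]
    · have htop : En = ⊤ := Submodule.eq_top_of_finrank_eq (by rw [hk, Module.finrank_fin_fun]; simpa using h4)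
      have : T = -LinearMap.id := LinearMap.ext fun v => (hn v).1 (htop ▸ Submodule.mem_top)
      rw [← LinearMap.toMatrix'_toLin' (g : M4), ← hT, this, map_neg, LinearMap.toMatrix'_id]
  obtain rfl : l = 2 := by omega
  subst hk2
  set e : Fin 2 ⊕ Fin 2 ≃ Fin 4 := finSumFinEquiv with he
  set b' := b.reindex e with hb'
  set P : M4 := Matrix.of fun r c => b' c r with hPdef
  have hP : IsUnit P := by
    rw [← Matrix.mulVec_injective_iff_isUnit]
    intro x y hxy
    have hx : ∀ z : V4, P *ᵥ z = ∑ c, z c • b' c := fun z => by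
      funext r
      simp [hPdef, Matrix.mulVec, dotProduct, Finset.sum_apply, mul_comm]
    have hxy' : P *ᵥ x = P *ᵥ y := hxy
    rw [hx, hx] at hxy'
    have := congrArg b'.repr hxy'
    simp [map_sum] at this
    funext c
    have h' := congrArg (fun f : Fin 4 →₀ ZMod 3 => f c) this
    simpa [Finsupp.single_apply] using h'
  refine exists_conj (U := !![-1, 0, 0, 0; 0, 1, 0, 0; 0, 0, 1, 0; 0, 0, 0, 1]) hP ?_ (by decide +kernel)
    (by decide +kernel)
  have hs : ∀ c k : Fin 4, (sMat : M4) k c =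
      if k = c then Sum.elim (fun _ : Fin 2 => (-1 : ZMod 3)) (fun _ => 1) (e.symm c) else 0 := by
    decide +kernel
  ext r c
  have h' := congrFun (hTb (e.symm c)) r
  rw [← show b' c = b (e.symm c) by simp [hb']] at h'
  rw [Matrix.mul_apply, Matrix.mul_apply]
  simp only [hs, mul_ite, mul_zero, Finset.sum_ite_eq', Finset.mem_univ, if_true]
  rw [hPdef]
  simp only [Matrix.of_apply]
  rw [hT, Matrix.toLin'_apply, Pi.smul_apply, smul_eq_mul] at h'
  exact h'.trans (mul_comm _ _)

/-- An element with a lift of square one is conjugate to the diagonal involution. -/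
theorem isConj_sP {g : SLF} (hg : (g : M4) * g = 1) (h1 : pr g ≠ 1) : IsConj sP (pr g) := by
  have hne : (g : M4) ≠ 1 ∧ (g : M4) ≠ -1 := by
    constructor <;> intro h <;> refine h1 ?_ <;> rw [← map_one pr, pr_eq_iff] <;>
      [left; right] <;> simp [h]
  obtain ⟨Q, hQ⟩ := conj_s hg hne.1 hne.2
  exact isConj_iff.2 ⟨pr Q, by rw [sP, ← map_inv, ← map_mul, ← map_mul, hQ]⟩

/-- The two classes of involutions. -/
theorem invol_cases (t : PSLF) (ht : t * t = 1) (ht1 : t ≠ 1) : IsConj sP t ∨ IsConj jP t := by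
  obtain ⟨g, rfl⟩ : ∃ g : SLF, pr g = t := QuotientGroup.mk_surjective t
  rw [← map_mul, ← map_one pr, pr_eq_iff, Matrix.SpecialLinearGroup.coe_mul,
    Matrix.SpecialLinearGroup.coe_one] at ht
  rcases ht with h | h
  · exact Or.inl (isConj_sP h ht1)
  · obtain ⟨Q, hQ⟩ := conj_j h
    exact Or.inr (isConj_iff.2 ⟨pr Q, by rw [jP, ← map_inv, ← map_mul, ← map_mul, hQ]⟩)

end Cfsg.Agent.Spor.PSLFourThree.JCase
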