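import Cfsg.Agent.Lib.Spor.PSLFourThree.JCase.Class

/-!
Two by two matrices over the field of nine elements as real four by four matrices.
-/

set_option autoImplicit false
set_option linter.unusedSectionVars false
set_option maxRecDepth 100000
set_option synthInstance.maxSize 4096
set_option synthInstance.maxHeartbeats 400000

namespace Cfsg.Agent.Spor.PSLFourThree.JCase

open Matrix

/-- The pairs `(a, b) = a + b i`. -/
abbrev F := ZMod 3 × ZMod 3

/-- Product of pairs. -/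
def fm (x y : F) : F := (x.1 * y.1 - x.2 * y.2, x.1 * y.2 + x.2 * y.1)

/-- Sum of pairs. -/
def fa (x y : F) : F := (x.1 + y.1, x.2 + y.2)

/-- Difference of pairs. -/
def fs (x y : F) : F := (x.1 - y.1, x.2 - y.2)

/-- Conjugate of a pair. -/
def fc (x : F) : F := (x.1, -x.2)

/-- Two by two matrices, row by row. -/
abbrev Q2 := F × F × F × F

/-- Product of matrices. -/
def qm (u v : Q2) : Q2 :=
  (fa (fm u.1 v.1) (fm u.2.1 v.2.2.1), fa (fm u.1 v.2.1) (fm u.2.1 v.2.2.2),
    fa (fm u.2.2.1 v.1) (fm u.2.2.2 v.2.2.1), fa (fm u.2.2.1 v.2.1) (fm u.2.2.2 v.2.2.2))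

/-- The entrywise conjugate. -/
def qc (u : Q2) : Q2 := (fc u.1, fc u.2.1, fc u.2.2.1, fc u.2.2.2)

/-- The determinant. -/
def qd (u : Q2) : F := fs (fm u.1 u.2.2.2) (fm u.2.1 u.2.2.1)

/-- A scalar matrix. -/
def sc (x : F) : Q2 := (x, (0, 0), (0, 0), x)

/-- The real matrix. -/
def R (u : Q2) : M4 :=
  !![u.1.1, u.1.2, u.2.1.1, u.2.1.2;
     -u.1.2, u.1.1, -u.2.1.2, u.2.1.1;
     u.2.2.1.1, u.2.2.1.2, u.2.2.2.1, u.2.2.2.2;
     -u.2.2.1.2, u.2.2.1.1, -u.2.2.2.2, u.2.2.2.1]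

/-- The field automorphism. -/
def S0 : M4 := !![1, 0, 0, 0; 0, -1, 0, 0; 0, 0, 1, 0; 0, 0, 0, -1]

theorem R_mul (u v : Q2) : R u * R v = R (qm u v) := by
  ext i j
  fin_cases i <;> fin_cases j <;>
    simp [R, qm, fa, fm, Matrix.mul_apply, Fin.sum_univ_four] <;> ring

theorem det_R (u : Q2) : (R u).det = (qd u).1 * (qd u).1 + (qd u).2 * (qd u).2 := by
  simp [R, qd, fs, fm, Matrix.det_succ_row_zero, Fin.sum_univ_succ, Fin.succAbove]
  ring

theorem R_one : R (sc (1, 0)) = 1 := by decide +kernel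

theorem R_neg_one : R (sc (-1, 0)) = -1 := by decide +kernel

theorem R_i : R (sc (0, 1)) = (jMat : M4) := by decide +kernel

theorem R_injective {u v : Q2} (h : R u = R v) : u = v := by
  have e : ∀ i j, R u i j = R v i j := fun i j => by rw [h]
  exact Prod.ext (Prod.ext (e 0 0) (e 0 1)) (Prod.ext (Prod.ext (e 0 2) (e 0 3))
    (Prod.ext (Prod.ext (e 2 0) (e 2 1)) (Prod.ext (e 2 2) (e 2 3))))

theorem S0_sq : S0 * S0 = 1 := by decide +kernel

theorem S0_R (u : Q2) : S0 * R u = R (qc u) * S0 := by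
  ext i j
  fin_cases i <;> fin_cases j <;> simp [R, S0, qc, fc, Matrix.mul_apply, Fin.sum_univ_four]

theorem S0_j : S0 * (jMat : M4) = -((jMat : M4) * S0) := by decide +kernel

/-- The inverse reading. -/
def read (g : M4) : Q2 :=
  ((g 0 0, g 0 1), (g 0 2, g 0 3), (g 2 0, g 2 1), (g 2 2, g 2 3))

theorem R_read {g : M4} (h : g * (jMat : M4) = (jMat : M4) * g) : R (read g) = g := by
  have e : ∀ i j, (g * (jMat : M4)) i j = ((jMat : M4) * g) i j := fun i j => by rw [h]
  have e00 := e 0 0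
  have e01 := e 0 1
  have e02 := e 0 2
  have e03 := e 0 3
  have e20 := e 2 0
  have e21 := e 2 1
  have e22 := e 2 2
  have e23 := e 2 3
  simp [jMat, Matrix.mul_apply, Fin.sum_univ_four] at e00 e01 e02 e03 e20 e21 e22 e23
  ext i j
  fin_cases i <;> fin_cases j <;>
    simp [R, read, ← e00, ← e01, ← e02, ← e03, ← e20, ← e21, ← e22, ← e23]

/-- The four units of norm one. -/
def units4 : List F := [(1, 0), (-1, 0), (0, 1), (0, -1)]

theorem norm_one : ∀ d : F, d.1 * d.1 + d.2 * d.2 = 1 → fm d d = (1, 0) ∨ fm d d = (-1, 0) := by decide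

theorem fc_fm (x y : F) : fc (fm x y) = fm (fc x) (fc y) := by
  ext <;> simp [fc, fm] <;> ring

theorem qd_mul (u v : Q2) : qd (qm u v) = fm (qd u) (qd v) := by
  ext <;> simp [qd, qm, fs, fa, fm] <;> ring

theorem qd_qc (u : Q2) : qd (qc u) = fc (qd u) := by
  ext <;> simp [qd, qc, fs, fc, fm] <;> ring

/-- The elements whose determinant is `±1`. -/
def InM0 (u : Q2) : Prop := qd u = (1, 0) ∨ qd u = (-1, 0)

instance : DecidablePred InM0 := fun _ => inferInstanceAs (Decidable (_ ∨ _))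

/-- The matrices of trace zero representing the involutions. -/
def tOf (p : F × F × F) : Q2 := (p.1, p.2.1, p.2.2, fs (0, 0) p.1)

/-- A normal form up to sign. -/
def Pos (p : F × F × F) : Prop :=
  if p.1.1 = 0 then (if p.1.2 = 0 then (if p.2.1.1 = 0 then p.2.1.2 = 1 else p.2.1.1 = 1) else p.1.2 = 1)
  else p.1.1 = 1

instance : DecidablePred Pos := fun p => by unfold Pos; infer_instance

/-- The representatives of the involutions of the second kind. -/
def reps : Finset (F × F × F) :=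
  Finset.univ.filter fun p => fa (fm p.1 p.1) (fm p.2.1 p.2.2) = (1, 0) ∧ Pos p

theorem card_reps : reps.card = 45 := by decide +kernel

theorem reps_spec : ∀ p ∈ reps, qm (tOf p) (tOf p) = sc (1, 0) ∧ tOf p ≠ sc (1, 0) ∧ tOf p ≠ sc (-1, 0) ∧
    qd (tOf p) = (-1, 0) := by decide +kernel

theorem reps_inj : ∀ p ∈ reps, ∀ q ∈ reps, (tOf p = tOf q ∨ tOf p = qm (sc (-1, 0)) (tOf q)) → p = q := by
  decide +kernel

set_option maxHeartbeats 1000000 in
theorem invol_form : ∀ u : Q2, InM0 u → (qm u u = sc (1, 0) ∨ qm u u = sc (-1, 0)) →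
    u = sc (1, 0) ∨ u = sc (-1, 0) ∨ u = sc (0, 1) ∨ u = sc (0, -1) ∨
      ∃ p ∈ reps, u = tOf p ∨ u = qm (sc (-1, 0)) (tOf p) ∨ u = qm (sc (0, 1)) (tOf p) ∨
        u = qm (sc (0, -1)) (tOf p) := by
  decide +kernel

theorem sq_ne_i : ∀ u : Q2, InM0 u → qm u u ≠ sc (0, 1) ∧ qm u u ≠ sc (0, -1) := by decide +kernel

/-- The trace. -/
def qt (u : Q2) : F := fa u.1 u.2.2.2

/-- The combination `a u + b`. -/
def lin (p : F × F) (u : Q2) : Q2 :=
  (fa (fm p.1 u.1) p.2, fm p.1 u.2.1, fm p.1 u.2.2.1, fa (fm p.1 u.2.2.2) p.2)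

/-- The coefficients of the powers of a matrix with given trace and determinant. -/
def coef (t d : F) : ℕ → F × F
  | 0 => ((0, 0), (1, 0))
  | n + 1 => (fa (fm (coef t d n).1 t) (coef t d n).2, fs (0, 0) (fm (coef t d n).1 d))

theorem lin_step (p : F × F) (u : Q2) :
    qm (lin p u) u = lin (fa (fm p.1 (qt u)) p.2, fs (0, 0) (fm p.1 (qd u))) u := by
  ext <;> simp [qm, lin, qt, qd, fa, fs, fm] <;> ring

theorem lin_zero (b : F) (u : Q2) : lin ((0, 0), b) u = sc b := by
  ext <;> simp [lin, sc, fa, fm]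

theorem R_pow (u : Q2) : ∀ n : ℕ, R u ^ n = R (lin (coef (qt u) (qd u) n) u)
  | 0 => by rw [pow_zero, coef, lin_zero, R_one]
  | n + 1 => by rw [pow_succ, R_pow u n, R_mul, lin_step]; rfl

theorem fm_eq_zero : ∀ a b : F, fm a b = (0, 0) → a = (0, 0) ∨ b = (0, 0) := by decide +kernel

/-- A combination which is scalar, of a matrix which is not, has no linear term. -/
theorem coef_zero {p : F × F} {u : Q2} {b : F} (h : lin p u = sc b) :
    p.1 = (0, 0) ∨ u = sc u.1 := by
  by_cases hp : p.1 = (0, 0)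
  · exact Or.inl hp
  right
  have h1 := congrArg (fun w : Q2 => w.2.1) h
  have h2 := congrArg (fun w : Q2 => w.2.2.1) h
  have h3 := (congrArg (fun w : Q2 => w.1) h).trans (congrArg (fun w : Q2 => w.2.2.2) h).symm
  simp only [lin, sc] at h1 h2 h3
  have h4 : fm p.1 (fs u.2.2.2 u.1) = (0, 0) := by
    have e1 := congrArg Prod.fst h3
    have e2 := congrArg Prod.snd h3
    simp only [fa, fm] at e1 e2
    ext <;> simp only [fm, fs]
    · linear_combination -e1
    · linear_combination -e2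
  have h5 := (fm_eq_zero _ _ h4).resolve_left hp
  refine Prod.ext rfl (Prod.ext ((fm_eq_zero _ _ h1).resolve_left hp) (Prod.ext ((fm_eq_zero _ _ h2).resolve_left hp) ?_))
  have e1 := congrArg Prod.fst h5
  have e2 := congrArg Prod.snd h5
  simp only [fs] at e1 e2
  exact Prod.ext (sub_eq_zero.1 e1) (sub_eq_zero.1 e2)

theorem coef_fifteen : ∀ t d : F, (d = (1, 0) ∨ d = (-1, 0)) → (coef t d 15).1 = (0, 0) →
    (coef t d 3).1 = (0, 0) ∨ (coef t d 5).1 = (0, 0) := by decide +kernel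

theorem scalar_sq : ∀ b : F, InM0 (sc b) → qm (sc b) (sc b) = sc (1, 0) ∨ qm (sc b) (sc b) = sc (-1, 0) := by
  decide +kernel

/-- An upper unipotent matrix. -/
def up (x : F) : Q2 := ((1, 0), x, (0, 0), (1, 0))

/-- A lower unipotent matrix. -/
def low (x : F) : Q2 := ((1, 0), (0, 0), x, (1, 0))

/-- The inverse in the field of nine elements. -/
def finv (x : F) : F :=
  let n := x.1 * x.1 + x.2 * x.2
  (n * x.1, n * -x.2)

/-- A product of four unipotent matrices. -/
def unis (u : Q2) : Q2 :=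
  if u.2.2.1 = (0, 0) then
    qm (qm (up (fm (fs (fa u.1 u.2.1) (1, 0)) (finv u.2.2.2))) (low u.2.2.2))
      (qm (up (fm (fs u.2.2.2 (1, 0)) (finv u.2.2.2))) (low (-1, 0)))
  else
    qm (qm (up (fm (fs u.1 (1, 0)) (finv u.2.2.1))) (low u.2.2.1))
      (qm (up (fm (fs u.2.2.2 (1, 0)) (finv u.2.2.1))) (low (0, 0)))

theorem unis_eq : ∀ u : Q2, qd u = (1, 0) → unis u = u := by decide +kernel

theorem unipotent_cube : ∀ x : F, qm (up x) (qm (up x) (up x)) = sc (1, 0) ∧
    qm (low x) (qm (low x) (low x)) = sc (1, 0) ∧ qd (up x) = (1, 0) ∧ qd (low x) = (1, 0) := by decide +kernel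

end Cfsg.Agent.Spor.PSLFourThree.JCase
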