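import Cfsg.Agent.Lib.Spor.PSLFourThree.JCase.Model

/-!
The centraliser of an involution without fixed vectors in `PSL₄(3)`.
-/

set_option autoImplicit false
set_option linter.unusedSectionVars false
set_option maxRecDepth 100000

namespace Cfsg.Agent.Spor.PSLFourThree.JCase

open Matrix

/-- The centraliser. -/
abbrev P0 : Subgroup PSLF := Subgroup.centralizer ({jP} : Set PSLF)

/-- The four group. -/
abbrev A := Multiplicative (ZMod 2 × ZMod 2)

theorem mem_P0 {x : PSLF} : x ∈ P0 ↔ x * jP = jP * x := Subgroup.mem_centralizer_singleton_iff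

/-- The lift of a matrix over the field of nine elements. -/
def RS (u : Q2) (h : (R u).det = 1) : SLF := ⟨R u, h⟩

theorem coe_RS (u : Q2) (h : (R u).det = 1) : ((RS u h : SLF) : M4) = R u := rfl

/-- The element given by a matrix over the field of nine elements. -/
noncomputable def pz (u : Q2) : PSLF := if h : (R u).det = 1 then pr (RS u h) else 1

theorem inM0_norm : ∀ d : F, (d = (1, 0) ∨ d = (-1, 0)) → d.1 * d.1 + d.2 * d.2 = 1 := by decide

theorem det_of_inM0 {u : Q2} (h : InM0 u) : (R u).det = 1 := by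
  rw [det_R]
  exact inM0_norm _ h

theorem pz_eq {u : Q2} (h : InM0 u) : pz u = pr (RS u (det_of_inM0 h)) := dif_pos _

attribute [irreducible] pz

theorem fm_pm : ∀ d e : F, (d = (1, 0) ∨ d = (-1, 0)) → (e = (1, 0) ∨ e = (-1, 0)) →
    (fm d e = (1, 0) ∨ fm d e = (-1, 0)) := by decide +kernel

theorem inM0_mul {u v : Q2} (hu : InM0 u) (hv : InM0 v) : InM0 (qm u v) := by
  rw [InM0, qd_mul]
  exact fm_pm _ _ hu hv

theorem inM0_consts : InM0 (sc (1, 0)) ∧ InM0 (sc (-1, 0)) ∧ InM0 (sc (0, 1)) ∧ InM0 (sc (0, -1)) := by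
  decide +kernel

theorem pz_mul {u v : Q2} (hu : InM0 u) (hv : InM0 v) : pz u * pz v = pz (qm u v) := by
  rw [pz_eq hu, pz_eq hv, pz_eq (inM0_mul hu hv), ← map_mul]
  congr 1
  apply Subtype.ext
  rw [Matrix.SpecialLinearGroup.coe_mul, coe_RS, coe_RS, coe_RS]
  exact R_mul u v

theorem pz_pm {u : Q2} (h : InM0 u) (e : R u = 1 ∨ R u = -1) : pz u = 1 := by
  rw [pz_eq h, ← map_one pr, pr_eq_iff, Matrix.SpecialLinearGroup.coe_one]
  exact e

theorem pz_one : pz (sc (1, 0)) = 1 := pz_pm inM0_consts.1 (Or.inl R_one)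

theorem pz_neg_one : pz (sc (-1, 0)) = 1 := pz_pm inM0_consts.2.1 (Or.inr R_neg_one)

theorem pz_eq_one {u : Q2} (h : InM0 u) (e : pz u = 1) : u = sc (1, 0) ∨ u = sc (-1, 0) := by
  rw [pz_eq h, ← map_one pr, pr_eq_iff, Matrix.SpecialLinearGroup.coe_one] at e
  rcases e with e | e
  · exact Or.inl (R_injective (e.trans R_one.symm))
  · exact Or.inr (R_injective (e.trans R_neg_one.symm))

theorem pz_i : pz (sc (0, 1)) = jP := by
  rw [pz_eq inM0_consts.2.2.1, jP]
  exact congrArg pr (Subtype.ext R_i)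

theorem pz_i_neg : pz (sc (0, -1)) = jP := by
  rw [← pz_i, show sc (0, -1) = qm (sc (-1, 0)) (sc (0, 1)) by decide +kernel,
    ← pz_mul inM0_consts.2.1 inM0_consts.2.2.1, pz_neg_one, one_mul]

theorem jP_sq : jP * jP = 1 := by
  rw [← pz_i, pz_mul inM0_consts.2.2.1 inM0_consts.2.2.1, show qm (sc (0, 1)) (sc (0, 1)) = sc (-1, 0) by decide +kernel,
    pz_neg_one]

theorem jP_ne_one : jP ≠ 1 := by
  intro e
  rcases pz_eq_one inM0_consts.2.2.1 (pz_i.trans e) with h | h <;> revert h <;> decide +kernel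

/-- The semilinear part. -/
def se (e : Bool) : M4 := if e then S0 else 1

/-- `x` is represented by `R u` followed by the field automorphism `e` times. -/
def Form (x : PSLF) (e : Bool) (u : Q2) : Prop := ∃ g : SLF, pr g = x ∧ (g : M4) = R u * se e

/-- The class of a determinant. -/
def nb (d : F) : Bool := decide (fm d d ≠ (1, 0))

/-- The value of the homomorphism on a form. -/
def val (e : Bool) (u : Q2) : A :=
  Multiplicative.ofAdd ((if e then 1 else 0 : ZMod 2), (if nb (qd u) then 1 else 0 : ZMod 2))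

theorem det_S0 : S0.det = 1 := by decide +kernel

theorem form_norm {x : PSLF} {e : Bool} {u : Q2} (h : Form x e u) :
    (qd u).1 * (qd u).1 + (qd u).2 * (qd u).2 = 1 := by
  obtain ⟨g, -, hg⟩ := h
  have hd : (R u * se e).det = 1 := hg ▸ g.2
  rw [Matrix.det_mul, det_R] at hd
  cases e
  · simpa [se] using hd
  · simpa [se, det_S0] using hd

theorem exists_form {x : PSLF} (hx : x ∈ P0) : ∃ e u, Form x e u := by
  obtain ⟨g, rfl⟩ : ∃ g : SLF, pr g = x := QuotientGroup.mk_surjective x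
  rw [mem_P0, jP, ← map_mul, ← map_mul, pr_eq_iff, Matrix.SpecialLinearGroup.coe_mul,
    Matrix.SpecialLinearGroup.coe_mul] at hx
  rcases hx with h | h
  · exact ⟨false, read (g : M4), g, rfl, by rw [R_read h, se]; simp⟩
  · refine ⟨true, read ((g : M4) * S0), g, rfl, ?_⟩
    have h' : (g : M4) * S0 * (jMat : M4) = (jMat : M4) * ((g : M4) * S0) := by
      rw [mul_assoc, S0_j, mul_neg, ← mul_assoc, h, neg_mul, neg_neg, mul_assoc]
    rw [R_read h', se, if_pos rfl, mul_assoc, S0_sq, mul_one]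

theorem jMat_unit : IsUnit (jMat : M4) := by
  rw [Matrix.isUnit_iff_isUnit_det, jMat.2]
  exact isUnit_one

theorem R_comm_j (u : Q2) : R u * (jMat : M4) = (jMat : M4) * R u := by
  rw [← R_i, R_mul, R_mul]
  congr 1
  ext <;> simp [qm, sc, fa, fm]

theorem val_well {x : PSLF} {e e' : Bool} {u u' : Q2} (h : Form x e u) (h' : Form x e' u') :
    val e u = val e' u' := by
  have key : ∀ e e' : Bool, ∀ u u' : Q2, ∀ (g g' : SLF), pr g = pr g' → (g : M4) = R u * se e →
      (g' : M4) = R u' * se e' → e = e' := by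
    intro e e' u u' g g' hp hg hg'
    have hcomm : ∀ (b : Bool) (w : Q2) (m : SLF), (m : M4) = R w * se b →
        (m : M4) * (jMat : M4) = (if b then -1 else 1 : ZMod 3) • ((jMat : M4) * (m : M4)) := by
      intro b w m hm
      cases b
      · simp [hm, se, R_comm_j]
      · simp only [hm, se, if_true, neg_smul, one_smul]
        rw [mul_assoc, S0_j, mul_neg, ← mul_assoc, R_comm_j, mul_assoc]
    have c1 := hcomm e u g hg
    have c2 := hcomm e' u' g' hg'
    by_contra hne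
    have hzero : (jMat : M4) * (g : M4) = 0 := by
      have hk : ∀ m : M4, m = -m → m = 0 := fun m hm => by
        ext i j
        have k : ∀ r : ZMod 3, r = -r → r = 0 := by decide
        exact k _ (congrFun (congrFun hm i) j)
      have c3 : (g : M4) * (jMat : M4) = (if e' then -1 else 1 : ZMod 3) • ((jMat : M4) * (g : M4)) := by
        rcases pr_eq_iff.1 hp with q | q
        · rw [q]; exact c2
        · rw [q, neg_mul, mul_neg, smul_neg, c2]
      have c4 := c1.symm.trans c3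
      cases e <;> cases e' <;>
        simp only [Bool.false_eq_true, if_false, if_true, one_smul, neg_smul] at c4 hne
      · exact (hne trivial).elim
      · exact hk _ c4
      · exact hk _ c4.symm
      · exact (hne trivial).elim
    have := congrArg Matrix.det hzero
    rw [Matrix.det_mul, jMat.2, g.2, Matrix.det_zero] at this
    exact absurd this (by decide)
  obtain ⟨g, hg, hge⟩ := h
  obtain ⟨g', hg', hge'⟩ := h'
  obtain rfl := key e e' u u' g g' (hg.trans hg'.symm) hge hge'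
  have hpm : R u * se e = R u' * se e ∨ R u * se e = -(R u' * se e) := by
    rw [← hge, ← hge']
    exact pr_eq_iff.1 (hg.trans hg'.symm)
  have hse : se e * se e = 1 := by cases e <;> simp [se, S0_sq]
  have hq : qd u = qd u' := by
    rcases hpm with q | q
    · have := congrArg (· * se e) q
      simp only [mul_assoc, hse, mul_one] at this
      rw [R_injective this]
    · have := congrArg (· * se e) q
      simp only [neg_mul, mul_assoc, hse, mul_one] at this
      rw [show -R u' = R (qm (sc (-1, 0)) u') by rw [← R_mul, R_neg_one, neg_mul, one_mul]] at this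
      rw [R_injective this, qd_mul, show qd (sc (-1, 0)) = (1, 0) by decide +kernel]
      ext <;> simp [fm]
  rw [val, val, hq]

/-- The chosen value. -/
noncomputable def chi0 (x : P0) : A :=
  val (Classical.choose (exists_form x.2)) (Classical.choose (Classical.choose_spec (exists_form x.2)))

theorem chi0_form {x : P0} {e : Bool} {u : Q2} (h : Form (x : PSLF) e u) : chi0 x = val e u :=
  val_well (Classical.choose_spec (Classical.choose_spec (exists_form x.2))) h

theorem nb_fc : ∀ d : F, nb (fc d) = nb d := by decide +kernel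

theorem nb_fm : ∀ d d' : F, d.1 * d.1 + d.2 * d.2 = 1 → d'.1 * d'.1 + d'.2 * d'.2 = 1 →
    nb (fm d d') = xor (nb d) (nb d') := by decide +kernel

/-- The twist of the right factor. -/
def tw (e : Bool) (u : Q2) : Q2 := if e then qc u else u

theorem form_mul {x y : PSLF} {e e' : Bool} {u u' : Q2} (h : Form x e u) (h' : Form y e' u') :
    Form (x * y) (xor e e') (qm u (tw e u')) := by
  obtain ⟨g, rfl, hg⟩ := h
  obtain ⟨g', rfl, hg'⟩ := h'
  refine ⟨g * g', map_mul _ _ _, ?_⟩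
  rw [Matrix.SpecialLinearGroup.coe_mul, hg, hg', ← R_mul]
  have hs : se e * R u' = R (tw e u') * se e := by cases e <;> simp [se, tw, S0_R]
  have hss : se e * se e' = se (xor e e') := by cases e <;> cases e' <;> simp [se, S0_sq]
  rw [mul_assoc, ← mul_assoc (se e), hs, mul_assoc, hss, mul_assoc]

theorem val_mul (e e' : Bool) (u u' : Q2) (hu : (qd u).1 * (qd u).1 + (qd u).2 * (qd u).2 = 1)
    (hu' : (qd u').1 * (qd u').1 + (qd u').2 * (qd u').2 = 1) :
    val (xor e e') (qm u (tw e u')) = val e u * val e' u' := by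
  have h1 : nb (qd (qm u (tw e u'))) = xor (nb (qd u)) (nb (qd u')) := by
    rw [qd_mul]
    cases e
    · exact nb_fm _ _ hu hu'
    · show nb (fm (qd u) (qd (qc u'))) = _
      rw [qd_qc, nb_fm _ _ hu (by simp [fc]; exact hu'), nb_fc]
  have h2 : ∀ a b : Bool, (if xor a b then (1 : ZMod 2) else 0) = (if a then 1 else 0) + if b then 1 else 0 := by
    decide
  rw [val, val, val, h1, h2, h2, ← ofAdd_add]
  rfl

/-- The homomorphism onto the four group. -/
noncomputable def chi : P0 →* A where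
  toFun := chi0
  map_one' := by
    rw [chi0_form (x := 1) (e := false) (u := sc (1, 0)) ⟨1, map_one _, by
      rw [Matrix.SpecialLinearGroup.coe_one, R_one, se]; simp⟩]
    decide +kernel
  map_mul' x y := by
    obtain ⟨e, u, h⟩ := exists_form x.2
    obtain ⟨e', u', h'⟩ := exists_form y.2
    rw [chi0_form h, chi0_form h', chi0_form (x := x * y) (form_mul h h'),
      val_mul _ _ _ _ (form_norm h) (form_norm h')]

theorem val_eq_one : ∀ (e : Bool) (d : F), d.1 * d.1 + d.2 * d.2 = 1 →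
    Multiplicative.ofAdd ((if e then 1 else 0 : ZMod 2), (if nb d then 1 else 0 : ZMod 2)) = (1 : A) →
      e = false ∧ (d = (1, 0) ∨ d = (-1, 0)) := by decide +kernel

theorem ker_form {x : P0} (hx : chi x = 1) : ∃ u, InM0 u ∧ (x : PSLF) = pz u := by
  obtain ⟨e, u, h⟩ := exists_form x.2
  obtain ⟨rfl, hu⟩ := val_eq_one e _ (form_norm h) ((chi0_form h).symm.trans hx)
  refine ⟨u, hu, ?_⟩
  obtain ⟨g, hg, hge⟩ := h
  rw [pz_eq hu, ← hg]
  congr 1
  apply Subtype.ext
  rw [hge, se, coe_RS]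
  simp

theorem pz_mem {u : Q2} (hu : InM0 u) : pz u ∈ P0 := by
  rw [mem_P0, pz_eq hu, jP, ← map_mul, ← map_mul]
  congr 1
  apply Subtype.ext
  rw [Matrix.SpecialLinearGroup.coe_mul, Matrix.SpecialLinearGroup.coe_mul]
  exact R_comm_j u

theorem chi_pz {u : Q2} (hu : InM0 u) (h : pz u ∈ P0) : chi ⟨pz u, h⟩ = 1 := by
  show chi0 _ = 1
  rw [chi0_form (x := ⟨pz u, h⟩) (e := false) (u := u) ⟨_, (pz_eq hu).symm, by simp [se, coe_RS]⟩, val]
  rcases hu with e | e <;> rw [e] <;> decide +kernel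

/-- The semilinear matrices. -/
def rMat (u : Q2) (h : (R u * S0).det = 1) : SLF := ⟨R u * S0, h⟩

/-- The field automorphism as an element. -/
noncomputable def r1 : PSLF := pr (rMat (sc (1, 0)) (by decide +kernel))

/-- The twisted field automorphism. -/
noncomputable def r2 : PSLF := pr (rMat ((0, 1), (0, 0), (0, 0), (1, 0)) (by decide +kernel))

theorem rMat_sq : R (sc (1, 0)) * S0 * (R (sc (1, 0)) * S0) = 1 ∧
    R ((0, 1), (0, 0), (0, 0), (1, 0)) * S0 * (R ((0, 1), (0, 0), (0, 0), (1, 0)) * S0) = 1 := by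
  decide +kernel

theorem rMat_ne : R (sc (1, 0)) * S0 ≠ 1 ∧ R (sc (1, 0)) * S0 ≠ -1 ∧
    R ((0, 1), (0, 0), (0, 0), (1, 0)) * S0 ≠ 1 ∧ R ((0, 1), (0, 0), (0, 0), (1, 0)) * S0 ≠ -1 := by
  decide +kernel

theorem r1_facts : ∃ h : r1 ∈ P0, r1 * r1 = 1 ∧ IsConj sP r1 ∧
    chi ⟨r1, h⟩ = Multiplicative.ofAdd ((1 : ZMod 2), (0 : ZMod 2)) := by
  have hsq : r1 * r1 = 1 := by
    rw [r1, ← map_mul, ← map_one pr]
    exact congrArg pr (Subtype.ext rMat_sq.1)
  have hne : r1 ≠ 1 := by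
    rw [r1, ← map_one pr, Ne, pr_eq_iff, Matrix.SpecialLinearGroup.coe_one]
    exact fun h => h.elim rMat_ne.1 rMat_ne.2.1
  have hf : Form r1 true (sc (1, 0)) := ⟨_, rfl, rfl⟩
  have hmem : r1 ∈ P0 := by
    rw [mem_P0, r1, jP, ← map_mul, ← map_mul, pr_eq_iff, Matrix.SpecialLinearGroup.coe_mul,
      Matrix.SpecialLinearGroup.coe_mul]
    right
    decide +kernel
  refine ⟨hmem, hsq, isConj_sP rMat_sq.1 hne, ?_⟩
  show chi0 _ = _
  rw [chi0_form (x := ⟨r1, hmem⟩) hf]
  decide +kernel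

theorem r2_facts : ∃ h : r2 ∈ P0, r2 * r2 = 1 ∧ IsConj sP r2 ∧
    chi ⟨r2, h⟩ = Multiplicative.ofAdd ((1 : ZMod 2), (1 : ZMod 2)) := by
  have hsq : r2 * r2 = 1 := by
    rw [r2, ← map_mul, ← map_one pr]
    exact congrArg pr (Subtype.ext rMat_sq.2)
  have hne : r2 ≠ 1 := by
    rw [r2, ← map_one pr, Ne, pr_eq_iff, Matrix.SpecialLinearGroup.coe_one]
    exact fun h => h.elim rMat_ne.2.2.1 rMat_ne.2.2.2
  have hf : Form r2 true ((0, 1), (0, 0), (0, 0), (1, 0)) := ⟨_, rfl, rfl⟩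
  have hmem : r2 ∈ P0 := by
    rw [mem_P0, r2, jP, ← map_mul, ← map_mul, pr_eq_iff, Matrix.SpecialLinearGroup.coe_mul,
      Matrix.SpecialLinearGroup.coe_mul]
    right
    decide +kernel
  refine ⟨hmem, hsq, isConj_sP rMat_sq.2 hne, ?_⟩
  show chi0 _ = _
  rw [chi0_form (x := ⟨r2, hmem⟩) hf]
  decide +kernel

theorem four_cases : ∀ a : A, a = 1 ∨ a = Multiplicative.ofAdd ((1 : ZMod 2), (0 : ZMod 2)) ∨
    a = Multiplicative.ofAdd ((1 : ZMod 2), (1 : ZMod 2)) ∨
    a = Multiplicative.ofAdd ((1 : ZMod 2), (0 : ZMod 2)) * Multiplicative.ofAdd ((1 : ZMod 2), (1 : ZMod 2)) := by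
  decide +kernel

theorem A_exp : ∀ a : A, a * a = 1 := by decide +kernel

theorem tri {ψ : P0 →* A} {x : PSLF} (hx : x ∈ P0) (h3 : x * (x * x) = 1) : ψ ⟨x, hx⟩ = 1 := by
  have h : (⟨x, hx⟩ : P0) * (⟨x, hx⟩ * ⟨x, hx⟩) = 1 := Subtype.ext h3
  have h' := congrArg ψ h
  rwa [map_mul, map_mul, A_exp, mul_one, map_one] at h'

theorem unipotent_pz (x : F) : InM0 (up x) ∧ InM0 (low x) ∧ pz (up x) * (pz (up x) * pz (up x)) = 1 ∧
    pz (low x) * (pz (low x) * pz (low x)) = 1 := by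
  obtain ⟨a, b, c, d⟩ := unipotent_cube x
  have hu : InM0 (up x) := Or.inl c
  have hl : InM0 (low x) := Or.inl d
  refine ⟨hu, hl, ?_, ?_⟩
  · rw [pz_mul hu hu, pz_mul hu (inM0_mul hu hu), a, pz_one]
  · rw [pz_mul hl hl, pz_mul hl (inM0_mul hl hl), b, pz_one]

theorem hom_jP (ψ : P0 →* A) (h : jP ∈ P0) : ψ ⟨jP, h⟩ = 1 := by
  obtain ⟨hr, hsq, -, -⟩ := r1_facts
  set z : SLF := RS (sc (1, 1)) (by decide +kernel)
  have hz : pr z ∈ P0 := by
    rw [mem_P0, jP, ← map_mul, ← map_mul, pr_eq_iff, Matrix.SpecialLinearGroup.coe_mul,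
      Matrix.SpecialLinearGroup.coe_mul]
    exact Or.inl (R_comm_j _)
  have e : r1 * pr z * r1 = jP * pr z := by
    rw [r1, jP, ← map_mul, ← map_mul, ← map_mul, pr_eq_iff, Matrix.SpecialLinearGroup.coe_mul,
      Matrix.SpecialLinearGroup.coe_mul, Matrix.SpecialLinearGroup.coe_mul]
    first
      | (left; decide +kernel)
      | (right; decide +kernel)
  have h' := congrArg ψ (show (⟨r1, hr⟩ : P0) * ⟨pr z, hz⟩ * ⟨r1, hr⟩ = ⟨jP, h⟩ * ⟨pr z, hz⟩ from Subtype.ext e)
  rw [map_mul, map_mul, map_mul, mul_comm (ψ ⟨r1, hr⟩) (ψ ⟨pr z, hz⟩), mul_assoc, A_exp, mul_one] at h'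
  exact right_eq_mul.1 h'

theorem qd_i_fix : ∀ d : F, d = (-1, 0) → fm (qd (sc (0, -1))) d = (1, 0) := by decide +kernel

/-- Every homomorphism to the four group kills the kernel. -/
theorem hom_ker (ψ : P0 →* A) {x : P0} (hx : chi x = 1) : ψ x = 1 := by
  obtain ⟨u, hu, hxu⟩ := ker_form hx
  have hsl : ∀ v : Q2, qd v = (1, 0) → ∀ h : pz v ∈ P0, ψ ⟨pz v, h⟩ = 1 := by
    intro v hv
    rw [← unis_eq v hv]
    have hprod : ∀ a b c d : Q2, InM0 a → InM0 b → InM0 c → InM0 d → pz a * (pz a * pz a) = 1 →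
        pz b * (pz b * pz b) = 1 → pz c * (pz c * pz c) = 1 → pz d * (pz d * pz d) = 1 →
        ∀ h : pz (qm (qm a b) (qm c d)) ∈ P0, ψ ⟨pz (qm (qm a b) (qm c d)), h⟩ = 1 := by
      intro a b c d ha hb hc hd qa qb qc qd' h
      have e : (⟨pz (qm (qm a b) (qm c d)), h⟩ : P0) =
          ⟨pz a, pz_mem ha⟩ * ⟨pz b, pz_mem hb⟩ * (⟨pz c, pz_mem hc⟩ * ⟨pz d, pz_mem hd⟩) := by
        apply Subtype.ext
        show pz (qm (qm a b) (qm c d)) = pz a * pz b * (pz c * pz d)
        rw [pz_mul ha hb, pz_mul hc hd, pz_mul (inM0_mul ha hb) (inM0_mul hc hd)]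
      rw [e, map_mul, map_mul, map_mul, tri _ qa, tri _ qb, tri _ qc, tri _ qd']
      rfl
    unfold unis
    split
    all_goals
      exact hprod _ _ _ _ (unipotent_pz _).1 (unipotent_pz _).2.1 (unipotent_pz _).1 (unipotent_pz _).2.1
        (unipotent_pz _).2.2.1 (unipotent_pz _).2.2.2 (unipotent_pz _).2.2.1 (unipotent_pz _).2.2.2
  rcases hu with hd | hd
  · rw [show x = ⟨pz u, hxu ▸ x.2⟩ from Subtype.ext hxu]
    exact hsl u hd _
  · set v := qm (sc (0, -1)) u with hv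
    have hvd : qd v = (1, 0) := by rw [hv, qd_mul]; exact qd_i_fix _ hd
    have hj : jP ∈ P0 := mem_P0.2 rfl
    have e : x = (⟨jP, hj⟩ : P0) * ⟨pz v, pz_mem (Or.inl hvd)⟩ := by
      apply Subtype.ext
      show (x : PSLF) = jP * pz v
      rw [hxu, hv, ← pz_mul inM0_consts.2.2.2 (Or.inr hd), pz_i_neg, ← mul_assoc, jP_sq, one_mul]
    rw [e, map_mul, hom_jP, hsl v hvd, one_mul]

/-- The involutions of the second kind. -/
noncomputable def Tset : Finset PSLF :=
  reps.image fun p => pz (tOf p)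

theorem tOf_inM0 {p : F × F × F} (hp : p ∈ reps) : InM0 (tOf p) := Or.inr (reps_spec p hp).2.2.2

theorem mem_Tset {p : F × F × F} (hp : p ∈ reps) : pz (tOf p) ∈ Tset := by
  exact Finset.mem_image.2 ⟨p, hp, rfl⟩

theorem card_Tset : Tset.card = 45 := by
  unfold Tset
  rw [Finset.card_image_of_injOn, card_reps]
  intro p hp q hq e
  simp only [Finset.mem_coe] at hp hq
  change pz (tOf p) = pz (tOf q) at e
  rw [pz_eq (tOf_inM0 hp), pz_eq (tOf_inM0 hq), pr_eq_iff] at e
  refine reps_inj p hp q hq (e.imp (fun h => R_injective h) fun h => R_injective ?_)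
  rw [← R_mul, R_neg_one, neg_mul, one_mul]
  exact h

theorem Tset_spec {t : PSLF} (ht : t ∈ Tset) :
    IsConj sP t ∧ t * t = 1 ∧ ∃ h : t ∈ P0, chi ⟨t, h⟩ = 1 := by
  obtain ⟨p, hp, rfl⟩ := Finset.mem_image.1 ht
  obtain ⟨h1, h2, h3, -⟩ := reps_spec p hp
  have hm := tOf_inM0 hp
  refine ⟨?_, by rw [pz_mul hm hm, h1, pz_one], pz_mem hm, chi_pz hm _⟩
  have hne : pz (tOf p) ≠ 1 := fun e => (pz_eq_one hm e).elim h2 h3
  rw [pz_eq hm] at hne ⊢
  refine isConj_sP ?_ hne
  show R (tOf p) * R (tOf p) = 1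
  rw [R_mul, h1, R_one]

theorem ker_sq {x : P0} (hx : chi x = 1) (h : (x : PSLF) * x = 1) :
    (x : PSLF) = 1 ∨ (x : PSLF) = jP ∨ (x : PSLF) ∈ Tset ∨ jP * (x : PSLF) ∈ Tset := by
  obtain ⟨u, hu, e⟩ := ker_form hx
  rw [e, pz_mul hu hu] at h
  rw [e]
  rcases invol_form u hu (pz_eq_one (inM0_mul hu hu) h) with rfl | rfl | rfl | rfl | ⟨p, hp, hp'⟩
  · exact Or.inl pz_one
  · exact Or.inl pz_neg_one
  · exact Or.inr (Or.inl pz_i)
  · exact Or.inr (Or.inl pz_i_neg)
  · obtain ⟨-, -, hi, hi'⟩ := inM0_consts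
    rcases hp' with rfl | rfl | rfl | rfl
    · exact Or.inr (Or.inr (Or.inl (mem_Tset hp)))
    · refine Or.inr (Or.inr (Or.inl ?_))
      rw [← pz_mul inM0_consts.2.1 (tOf_inM0 hp), pz_neg_one, one_mul]
      exact mem_Tset hp
    · refine Or.inr (Or.inr (Or.inr ?_))
      rw [← pz_mul hi (tOf_inM0 hp), pz_i, ← mul_assoc, jP_sq, one_mul]
      exact mem_Tset hp
    · refine Or.inr (Or.inr (Or.inr ?_))
      rw [← pz_mul hi' (tOf_inM0 hp), pz_i_neg, ← mul_assoc, jP_sq, one_mul]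
      exact mem_Tset hp

theorem ker_sq_ne {x : P0} (hx : chi x = 1) : (x : PSLF) * x ≠ jP := by
  obtain ⟨u, hu, e⟩ := ker_form hx
  rw [e, pz_mul hu hu, ← pz_i, pz_eq (inM0_mul hu hu), pz_eq inM0_consts.2.2.1]
  intro h
  rcases pr_eq_iff.1 h with q | q
  · exact (sq_ne_i u hu).1 (R_injective q)
  · refine (sq_ne_i u hu).2 (R_injective ?_)
    rw [show sc (0, -1) = qm (sc (-1, 0)) (sc (0, 1)) by decide +kernel, ← R_mul (sc (-1, 0)), R_neg_one, neg_mul, one_mul]
    exact q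

theorem scalar_inM0 : ∀ b : F, InM0 (sc b) → (qm (sc b) (sc b) = sc (1, 0) ∨ qm (sc b) (sc b) = sc (-1, 0)) :=
  scalar_sq

/-- There is no element of order fifteen. -/
theorem ker_fifteen {x : P0} (hx : chi x = 1) (h : (x : PSLF) ^ 15 = 1) :
    (x : PSLF) ^ 3 = 1 ∨ (x : PSLF) ^ 5 = 1 := by
  obtain ⟨u, hu, e⟩ := ker_form hx
  rw [e] at h ⊢
  have hpow : ∀ n : ℕ, ∃ hn : InM0 (lin (coef (qt u) (qd u) n) u),
      pz u ^ n = pz (lin (coef (qt u) (qd u) n) u) := by
    intro n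
    induction n with
    | zero =>
      have e0 : lin (coef (qt u) (qd u) 0) u = sc (1, 0) := lin_zero _ u
      rw [e0]
      exact ⟨inM0_consts.1, by rw [pow_zero, pz_one]⟩
    | succ n ih =>
      obtain ⟨hn, en⟩ := ih
      have e1 : qm (lin (coef (qt u) (qd u) n) u) u = lin (coef (qt u) (qd u) (n + 1)) u := lin_step _ u
      rw [← e1]
      exact ⟨inM0_mul hn hu, by rw [pow_succ, en, pz_mul hn hu]⟩
  obtain ⟨h15, e15⟩ := hpow 15
  have hscal : ∀ (n : ℕ) (b : F), lin (coef (qt u) (qd u) n) u = sc b → (pz u ^ n) ^ 2 = 1 := by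
    intro n b hb
    obtain ⟨hn, en⟩ := hpow n
    rw [en, pow_two, pz_mul hn hn]
    rw [hb] at hn ⊢
    rcases scalar_inM0 b hn with q | q <;> rw [q]
    · exact pz_one
    · exact pz_neg_one
  have hred : ∀ n : ℕ, n ∣ 15 → (pz u ^ n) ^ 2 = 1 → pz u ^ n = 1 := by
    rintro n ⟨m, hm⟩ h2
    have hm2 : Odd m := by
      rcases Nat.even_or_odd m with ⟨k, hk⟩ | h'
      · exfalso; subst hk; rw [mul_add] at hm; omega
      · exact h'
    obtain ⟨k, rfl⟩ := hm2
    rw [hm, pow_mul, pow_succ, pow_mul, h2, one_pow, one_mul] at h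
    exact h
  rw [e15] at h
  by_cases hs : u = sc u.1
  · refine Or.inl (hred 3 (by norm_num) ?_)
    rcases scalar_inM0 u.1 (hs ▸ hu) with q | q <;>
    · have h2 : pz u ^ 2 = 1 := by
        rw [pow_two, pz_mul hu hu, hs, q]
        first | exact pz_one | exact pz_neg_one
      rw [← pow_mul, mul_comm, pow_mul, h2, one_pow]
  have h0 : (coef (qt u) (qd u) 15).1 = (0, 0) := by
    rcases pz_eq_one h15 h with q | q <;> exact (coef_zero q).resolve_right hs
  rcases coef_fifteen _ _ hu h0 with q | q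
  · refine Or.inl (hred 3 (by norm_num) (hscal 3 (coef (qt u) (qd u) 3).2 ?_))
    rw [show coef (qt u) (qd u) 3 = ((0, 0), (coef (qt u) (qd u) 3).2) from Prod.ext q rfl]
    exact lin_zero _ u
  · refine Or.inr (hred 5 (by norm_num) (hscal 5 (coef (qt u) (qd u) 5).2 ?_))
    rw [show coef (qt u) (qd u) 5 = ((0, 0), (coef (qt u) (qd u) 5).2) from Prod.ext q rfl]
    exact lin_zero _ u

end Cfsg.Agent.Spor.PSLFourThree.JCase
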